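import Mathlib

/-!
# Elements with prescribed behaviour modulo a prime under a finite group action

For a finite group `G` acting on `B` with invariants `A` and a prime `Q` of `B`, we construct an
element `y` of `B` fixed by the inertia group of `Q` such that `σ • y - y ∉ Q` for every `σ`
outside the inertia group.
-/

set_option linter.style.haveILetI false
set_option linter.unusedVariables false
set_option linter.unusedSectionVars false
set_option autoImplicit false
set_option backward.isDefEq.respectTransparency.types false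
set_option backward.isDefEq.respectTransparency false
set_option synthInstance.maxHeartbeats 400000
set_option maxHeartbeats 1600000

open Polynomial
open scoped Pointwise

namespace Groth.Agent.Helper7.Inertia

section Coeff

theorem exists_frob_data (R : Type*) [CommRing R] [IsDomain R] (N : ℕ) (hN : 0 < N) :
    ∃ q m : ℕ, N = q * m ∧ 0 < q ∧ ((m : ℕ) : R) ≠ 0 ∧
      (∀ x y : R, (x - y) ^ q = x ^ q - y ^ q) ∧
      (∀ x y : R[X], (x - y) ^ q = x ^ q - y ^ q) := by
  obtain ⟨p, hp⟩ := CharP.exists R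
  rcases CharP.char_is_prime_or_zero R p with hprime | rfl
  · haveI : Fact p.Prime := ⟨hprime⟩
    obtain ⟨e, m, hm, hN'⟩ := Nat.exists_eq_pow_mul_and_not_dvd hN.ne' p hprime.ne_one
    refine ⟨p ^ e, m, hN', pow_pos hprime.pos e, ?_, ?_, ?_⟩
    · rwa [Ne, CharP.cast_eq_zero_iff R p]
    · intro x y
      exact sub_pow_char_pow x y e
    · intro x y
      exact sub_pow_char_pow x y e
  · haveI : CharZero R := CharP.charP_to_charZero R
    refine ⟨1, N, (one_mul N).symm, one_pos, ?_, ?_, ?_⟩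
    · exact Nat.cast_ne_zero.mpr hN.ne'
    · intro x y
      simp
    · intro x y
      simp

theorem coeff_key (R : Type*) [CommRing R] (q m : ℕ) (hq : 0 < q) (hm : 0 < m)
    (hRX : ∀ x y : R[X], (x - y) ^ q = x ^ q - y ^ q) (β : R) :
    ((X - C β) ^ (q * m)).coeff (q * (m - 1)) = -(β ^ q) * (m : R) := by
  have h1 : (X - C β : R[X]) ^ (q * m) = expand R q ((X + C (-(β ^ q))) ^ m) := by
    rw [pow_mul, hRX X (C β), map_pow, map_add, expand_X, expand_C, C_neg, C_pow,
      ← sub_eq_add_neg]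
  rw [h1, coeff_expand_mul' hq, coeff_X_add_C_pow]
  have h2 : m - (m - 1) = 1 := by omega
  have h3 : m.choose (m - 1) = m := by
    rw [Nat.choose_symm (by omega : 1 ≤ m)]
    exact Nat.choose_one_right m
  rw [h2, h3, pow_one]

theorem exists_coeff_injective (R : Type*) [CommRing R] [IsDomain R] (N : ℕ) (hN : 0 < N) :
    ∃ i, ∀ β β' : R, ((X - C β) ^ N).coeff i = ((X - C β') ^ N).coeff i → β = β' := by
  obtain ⟨q, m, hNqm, hq, hm, hR, hRX⟩ := exists_frob_data R N hN
  have hm0 : 0 < m := Nat.pos_of_ne_zero (by rintro rfl; exact hm Nat.cast_zero)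
  refine ⟨q * (m - 1), fun β β' h => ?_⟩
  rw [hNqm, coeff_key R q m hq hm0 hRX, coeff_key R q m hq hm0 hRX] at h
  have h2 : β ^ q = β' ^ q := neg_injective (mul_right_cancel₀ hm h)
  have h3 : (β - β') ^ q = 0 := by rw [hR, h2, sub_self]
  exact sub_eq_zero.mp ((pow_eq_zero_iff hq.ne').mp h3)

end Coeff

section Prim

variable {A B : Type*} [CommRing A] [CommRing B] [Algebra A B]
  (G : Type*) [Group G] [Finite G] [MulSemiringAction G B] [SMulCommClass G A B]
  (P : Ideal A) (Q : Ideal B) [Q.IsPrime] [Q.LiesOver P]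

variable (K L : Type*) [Field K] [Field L]
  [Algebra (A ⧸ P) K] [Algebra (B ⧸ Q) L]
  [Algebra (A ⧸ P) L] [IsScalarTower (A ⧸ P) (B ⧸ Q) L]
  [Algebra K L] [IsScalarTower (A ⧸ P) K L]
  [Algebra.IsInvariant A B G]

theorem exists_primitive_mod_aux [IsFractionRing (A ⧸ P) K] [IsFractionRing (B ⧸ Q) L] :
    ∃ c : B, ∀ σ : MulAction.stabilizer G Q, σ.1 • c - c ∈ Q →
      σ ∈ Q.inertia (MulAction.stabilizer G Q) := by
  classical
  have hP : P.IsPrime := Ideal.over_def Q P ▸ Ideal.IsPrime.under A Q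
  have hint : Algebra.IsIntegral A B := Algebra.IsInvariant.isIntegral A B G
  have hsurj := IsFractionRing.stabilizerHom_surjective G P Q K L
  have hker := IsFractionRing.ker_stabilizerHom G P Q K L
  haveI : Finite (L ≃ₐ[K] L) := Finite.of_surjective _ hsurj
  obtain ⟨θ, hθ⟩ := Field.exists_primitive_element (FixedPoints.subfield (L ≃ₐ[K] L) L) L
  have key : ∀ γ : L ≃ₐ[K] L, γ θ = θ → γ = 1 := by
    intro γ hγ
    have h1 : IntermediateField.adjoin (FixedPoints.subfield (L ≃ₐ[K] L) L) {θ} ≤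
        FixedBy.intermediateField (FixedPoints.subfield (L ≃ₐ[K] L) L) L γ :=
      IntermediateField.adjoin_simple_le_iff.mpr hγ
    rw [hθ] at h1
    ext x
    exact h1 (IntermediateField.mem_top : x ∈ ⊤)
  obtain ⟨x, y, hy, hxy⟩ := IsFractionRing.div_surjective (B ⧸ Q) θ
  obtain ⟨b, a, ha, h⟩ := (Algebra.IsAlgebraic.isAlgebraic (R := A ⧸ P) y).exists_smul_eq_mul x hy
  have ha' : algebraMap (A ⧸ P) L a ≠ 0 := by
    rwa [Ne, IsScalarTower.algebraMap_apply (A ⧸ P) K L, FaithfulSMul.algebraMap_eq_zero_iff,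
      FaithfulSMul.algebraMap_eq_zero_iff]
  have hy' : algebraMap (B ⧸ Q) L y ≠ 0 :=
    mt (FaithfulSMul.algebraMap_eq_zero_iff (B ⧸ Q) L).mp (nonZeroDivisors.ne_zero hy)
  have hθ' : θ = algebraMap (B ⧸ Q) L b / algebraMap (A ⧸ P) L a := by
    rw [← hxy]
    rw [mul_comm, Algebra.smul_def, mul_comm] at h
    rw [div_eq_div_iff hy' ha', ← map_mul, ← h, map_mul, ← IsScalarTower.algebraMap_apply]
  obtain ⟨c, rfl⟩ := Ideal.Quotient.mk_surjective b
  refine ⟨c, fun σ hσ => ?_⟩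
  rw [← hker, MonoidHom.mem_ker]
  apply key
  have e1 : IsFractionRing.stabilizerHom G P Q K L σ
      (algebraMap (B ⧸ Q) L (Ideal.Quotient.mk Q c)) =
      algebraMap (B ⧸ Q) L (Ideal.Quotient.mk Q c) := by
    rw [IsFractionRing.stabilizerHom_apply_apply_mk, Ideal.Quotient.eq.mpr hσ]
  have e2 : IsFractionRing.stabilizerHom G P Q K L σ (algebraMap (A ⧸ P) L a) =
      algebraMap (A ⧸ P) L a := by
    rw [IsScalarTower.algebraMap_apply (A ⧸ P) K L, AlgEquiv.commutes]
  rw [hθ', map_div₀, e1, e2]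

end Prim

section Good

variable {A B : Type*} [CommRing A] [CommRing B] [Algebra A B]
  (G : Type*) [Group G] [Finite G] [MulSemiringAction G B] [SMulCommClass G A B]
  (P : Ideal A) (Q : Ideal B) [Q.IsPrime] [Q.LiesOver P] [Algebra.IsInvariant A B G]

include P in
theorem exists_primitive_mod :
    ∃ c : B, ∀ σ : MulAction.stabilizer G Q, σ.1 • c - c ∈ Q →
      σ ∈ Q.inertia (MulAction.stabilizer G Q) := by
  have : P.IsPrime := Ideal.over_def Q P ▸ Ideal.IsPrime.under A Q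
  let _ := FractionRing.liftAlgebra (A ⧸ P) (FractionRing (B ⧸ Q))
  exact exists_primitive_mod_aux G P Q (FractionRing (A ⧸ P)) (FractionRing (B ⧸ Q))

include P in
theorem exists_good : ∃ y : B, (∀ τ ∈ Q.inertia G, τ • y = y) ∧
    ∀ σ : G, σ ∉ Q.inertia G → σ • y - y ∉ Q := by
  classical
  cases nonempty_fintype G
  obtain ⟨c, hc⟩ := exists_primitive_mod G P Q
  let N := Fintype.card ↥(Q.inertia G)
  have hN : 0 < N := Fintype.card_pos
  obtain ⟨i, hi⟩ := exists_coeff_injective (B ⧸ Q) N hN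
  let c₁ : B := (MulSemiringAction.charpoly ↥(Q.inertia G) c).coeff i
  have hc₁inv : ∀ τ ∈ Q.inertia G, τ • c₁ = c₁ := fun τ hτ =>
    MulSemiringAction.smul_coeff_charpoly c i (⟨τ, hτ⟩ : ↥(Q.inertia G))
  have hmap : ∀ σ : G, σ • Q = Q →
      Ideal.Quotient.mk Q (σ • c₁) = ((X - C (Ideal.Quotient.mk Q (σ • c))) ^ N).coeff i := by
    intro σ hσ
    have h0 : ∀ τ : ↥(Q.inertia G), (σ • (X - C (τ • c) : B[X])).map (Ideal.Quotient.mk Q) =
        X - C (Ideal.Quotient.mk Q (σ • c)) := by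
      intro τ
      have e : Ideal.Quotient.mk Q (σ • (τ • c)) = Ideal.Quotient.mk Q (σ • c) := by
        rw [Ideal.Quotient.eq, ← smul_sub]
        have h2 : (τ : G) • c - c ∈ Q := τ.2 c
        have h3 := Ideal.smul_mem_pointwise_smul σ _ Q h2
        rwa [hσ] at h3
      rw [smul_sub, Polynomial.smul_X, Polynomial.smul_C, Polynomial.map_sub, Polynomial.map_X,
        Polynomial.map_C, e]
    have h1 : (σ • MulSemiringAction.charpoly ↥(Q.inertia G) c).map (Ideal.Quotient.mk Q) =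
        (X - C (Ideal.Quotient.mk Q (σ • c))) ^ N := by
      rw [MulSemiringAction.charpoly_eq, Finset.smul_prod', Polynomial.map_prod,
        Finset.prod_congr rfl (fun τ _ => h0 τ), Finset.prod_const, Finset.card_univ]
    have h2 : Ideal.Quotient.mk Q (σ • c₁) =
        ((σ • MulSemiringAction.charpoly ↥(Q.inertia G) c).map (Ideal.Quotient.mk Q)).coeff i := by
      rw [Polynomial.coeff_map, Polynomial.coeff_smul]
    rw [h2, h1]
  -- an element of all other conjugates of `Q` but not of `Q`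
  have h1 : ¬ (Finset.univ.filter (fun g : G => g • Q ≠ Q)).inf (fun g => g • Q) ≤ Q := by
    rw [Ideal.IsPrime.inf_le' inferInstance]
    rintro ⟨g, hg1, hg2⟩
    exact (Finset.mem_filter.mp hg1).2 (smul_eq_of_smul_le hg2)
  obtain ⟨b₀, hbP, hbQ⟩ := SetLike.not_le_iff_exists.mp h1
  replace hbP : ∀ g : G, g • Q ≠ Q → b₀ ∈ g • Q := fun g hg =>
    (Finset.inf_le (Finset.mem_filter.mpr ⟨Finset.mem_univ g, hg⟩) :
      (Finset.univ.filter (fun g : G => g • Q ≠ Q)).inf (fun g => g • Q) ≤ g • Q) hbP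
  let z : B := ∏ ρ : ↥(MulAction.stabilizer G Q), ρ • b₀
  have hz1 : ∀ ρ : G, ρ • Q = Q → ρ • z = z := fun ρ hρ =>
    Finset.smul_prod_perm b₀ (⟨ρ, hρ⟩ : ↥(MulAction.stabilizer G Q))
  have hz2 : z ∉ Q := by
    intro hz
    obtain ⟨ρ, -, hρ⟩ := Ideal.IsPrime.prod_mem_iff.mp hz
    have h3 : (ρ : G)⁻¹ • Q = Q := inv_smul_eq_iff.mpr ρ.2.symm
    have h4 : b₀ ∈ (ρ : G)⁻¹ • Q := Ideal.mem_inv_pointwise_smul_iff.mpr hρ
    rw [h3] at h4
    exact hbQ h4
  have hz3 : ∀ g : G, g • Q ≠ Q → z ∈ g • Q := by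
    intro g hg
    obtain ⟨w, hw⟩ : (1 : ↥(MulAction.stabilizer G Q)) • b₀ ∣ z :=
      Finset.dvd_prod_of_mem (fun ρ : ↥(MulAction.stabilizer G Q) => ρ • b₀) (Finset.mem_univ 1)
    rw [hw, one_smul]
    exact Ideal.mul_mem_right _ _ (hbP g hg)
  obtain ⟨c', hc'Q, hc'inv, hc'diff⟩ : ∃ c' : B, c' ∉ Q ∧ (∀ τ ∈ Q.inertia G, τ • c' = c') ∧
      (∀ σ : G, σ • c' - c' = σ • c₁ - c₁) := by
    by_cases hcQ : c₁ ∈ Q
    · refine ⟨c₁ + 1, fun h => ?_, fun τ hτ => ?_, fun σ => ?_⟩
      · have h5 : (1 : B) ∈ Q := by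
          have := Q.sub_mem h hcQ
          rwa [add_sub_cancel_left] at this
        exact (Ideal.IsPrime.ne_top inferInstance) ((Ideal.eq_top_iff_one Q).mpr h5)
      · rw [smul_add, smul_one, hc₁inv τ hτ]
      · rw [smul_add, smul_one]
        ring
    · exact ⟨c₁, hcQ, hc₁inv, fun σ => rfl⟩
  refine ⟨z * c', fun τ hτ => ?_, fun σ hσ hmem => ?_⟩
  · rw [smul_mul', hz1 τ (Ideal.inertia_le_stabilizer Q hτ), hc'inv τ hτ]
  · by_cases hσQ : σ • Q = Q
    · have h5 : σ • (z * c') - z * c' = z * (σ • c₁ - c₁) := by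
        rw [smul_mul', hz1 σ hσQ, ← hc'diff σ]
        ring
      rw [h5] at hmem
      have h6 : σ • c₁ - c₁ ∈ Q := (Ideal.IsPrime.mem_or_mem inferInstance hmem).resolve_left hz2
      have h7 : Ideal.Quotient.mk Q (σ • c₁) = Ideal.Quotient.mk Q ((1 : G) • c₁) := by
        rw [one_smul]
        exact Ideal.Quotient.eq.mpr h6
      rw [hmap σ hσQ, hmap 1 (one_smul G Q)] at h7
      have h8 := hi _ _ h7
      rw [one_smul] at h8
      have h9 : (⟨σ, hσQ⟩ : MulAction.stabilizer G Q) ∈ Q.inertia (MulAction.stabilizer G Q) :=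
        hc ⟨σ, hσQ⟩ (Ideal.Quotient.eq.mp h8)
      exact hσ (Ideal.coe_mem_inertia.mpr h9)
    · have h5 : z * c' ∉ Q := fun h =>
        (Ideal.IsPrime.mem_or_mem inferInstance h).elim hz2 hc'Q
      have h6 : σ⁻¹ • Q ≠ Q := fun h => hσQ (inv_smul_eq_iff.mp h).symm
      have h7 : σ • z ∈ Q := Ideal.mem_inv_pointwise_smul_iff.mp (hz3 σ⁻¹ h6)
      have h8 : σ • (z * c') ∈ Q := by
        rw [smul_mul']
        exact Ideal.mul_mem_right _ _ h7
      have h9 := Q.sub_mem h8 hmem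
      rw [sub_sub_cancel] at h9
      exact h5 h9

end Good

end Groth.Agent.Helper7.Inertia
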