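import Mathlib
import Groth.Agent.Lib.Helper7.Inertia.Mod

/-!
# The finite Galois level: a good primitive element for the inertia field
-/

set_option linter.style.haveILetI false
set_option linter.unusedVariables false
set_option linter.unusedSectionVars false
set_option autoImplicit false
set_option backward.isDefEq.respectTransparency.types false
set_option backward.isDefEq.respectTransparency false
set_option synthInstance.maxHeartbeats 400000
set_option maxHeartbeats 1600000

open scoped Pointwise

namespace Groth.Agent.Helper7.Inertia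

section Fin

variable (A K E : Type*) [CommRing A] [Field K] [Field E]
  [Algebra A K] [Algebra K E] [Algebra A E] [IsScalarTower A K E]

/-- the Galois group acts on the integral closure -/
noncomputable instance galAction : MulSemiringAction (E ≃ₐ[K] E) (integralClosure A E) where
  smul σ b := ⟨σ b.1, IsIntegral.map σ b.2⟩
  one_smul b := Subtype.ext rfl
  mul_smul σ τ b := Subtype.ext rfl
  smul_zero σ := Subtype.ext (map_zero σ)
  smul_add σ b c := Subtype.ext (map_add σ _ _)
  smul_one σ := Subtype.ext (map_one σ)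
  smul_mul σ b c := Subtype.ext (map_mul σ _ _)

theorem galAction_coe (σ : E ≃ₐ[K] E) (b : integralClosure A E) :
    ((σ • b : integralClosure A E) : E) = σ (b : E) := rfl

instance galAction_smulComm : SMulCommClass (E ≃ₐ[K] E) A (integralClosure A E) where
  smul_comm σ a b := Subtype.ext (map_smul (σ.restrictScalars A) a b.1)

variable [IsDomain A] [IsIntegrallyClosed A] [IsFractionRing A K]

instance galAction_isInvariant [FiniteDimensional K E] [h : IsGalois K E] :
    Algebra.IsInvariant A (integralClosure A E) (E ≃ₐ[K] E) := by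
  have h' := ((IsGalois.tfae (F := K) (E := E)).out 0 1).mp h
  refine ⟨fun b hb => ?_⟩
  have hb' : (b : E) ∈ IntermediateField.fixedField (⊤ : Subgroup (E ≃ₐ[K] E)) := by
    rintro ⟨g, -⟩
    exact congrArg Subtype.val (hb g)
  rw [h', IntermediateField.mem_bot] at hb'
  obtain ⟨k, hk⟩ := hb'
  have hbint : IsIntegral A (b : E) := b.2
  rw [← hk, isIntegral_algebraMap_iff (FaithfulSMul.algebraMap_injective K E)] at hbint
  obtain ⟨a, rfl⟩ := IsIntegrallyClosed.algebraMap_eq_of_integral hbint
  refine ⟨a, Subtype.ext ?_⟩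
  rw [← hk, ← IsScalarTower.algebraMap_apply]
  rfl

theorem fin_main [FiniteDimensional K E] [IsGalois K E] (Q : Ideal (integralClosure A E))
    [Q.IsPrime] :
    ∃ y : E, IsIntegral A y ∧
      (∀ σ : E ≃ₐ[K] E, (∀ b : integralClosure A E, ∃ c ∈ Q, (c : E) = σ b - b) → σ y = y) ∧
      (∀ σ : E ≃ₐ[K] E, (¬ ∀ b : integralClosure A E, ∃ c ∈ Q, (c : E) = σ b - b) →
        ¬ ∃ c ∈ Q, (c : E) = σ y - y) := by
  haveI : Finite (E ≃ₐ[K] E) := inferInstance
  obtain ⟨y, hy1, hy2⟩ := exists_good (E ≃ₐ[K] E) (Q.under A) Q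
  have key : ∀ σ : E ≃ₐ[K] E, σ ∈ Q.inertia (E ≃ₐ[K] E) ↔
      ∀ b : integralClosure A E, ∃ c ∈ Q, (c : E) = σ b - b := by
    intro σ
    refine ⟨fun h b => ⟨σ • b - b, h b, rfl⟩, fun h => AddSubgroup.mem_inertia.mpr fun b => ?_⟩
    obtain ⟨c, hc, hcb⟩ := h b
    have h2 : c = σ • b - b := Subtype.ext hcb
    rw [← h2]
    exact hc
  refine ⟨y.1, y.2, fun σ hσ => ?_, fun σ hσ => ?_⟩
  · exact congrArg Subtype.val (hy1 σ ((key σ).mpr hσ))
  · rintro ⟨c, hc, hcy⟩
    have h2 : c = σ • y - y := Subtype.ext hcy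
    exact hy2 σ (fun h => hσ ((key σ).mp h)) (h2 ▸ hc)

end Fin

theorem mem_adjoin_of_fixed (K E : Type*) [Field K] [Field E] [Algebra K E]
    [FiniteDimensional K E] [IsGalois K E] (y x : E)
    (h : ∀ τ : E ≃ₐ[K] E, τ y = y → τ x = x) : x ∈ Algebra.adjoin K {y} := by
  have h1 : x ∈ IntermediateField.fixedField
      (IntermediateField.fixingSubgroup (IntermediateField.adjoin K {y})) := by
    rw [IntermediateField.mem_fixedField_iff]
    intro τ hτ
    apply h
    exact (IntermediateField.mem_fixingSubgroup_iff _ τ).mp hτ y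
      (IntermediateField.mem_adjoin_simple_self K y)
  rw [IsGalois.fixedField_fixingSubgroup] at h1
  have h2 : x ∈ (IntermediateField.adjoin K {y}).toSubalgebra := h1
  rwa [IntermediateField.adjoin_simple_toSubalgebra_of_isAlgebraic
    (Algebra.IsAlgebraic.isAlgebraic y)] at h2

end Groth.Agent.Helper7.Inertia
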