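import Mathlib
import Groth.Prelude.Def_PBC
import Groth.Agent.Lib.Helper6.IndEtObj
import Groth.Agent.Lib.Helper6.IndEtDiag
import Groth.Agent.Lib.Helper6.IndEtComp
import Groth.Agent.Lib.Helper6.IndEtLift.IL3

/-!
# Ind-etale algebras: transport along isomorphisms, directed unions of subalgebras, localizations
-/

set_option linter.style.haveILetI false
set_option linter.unusedVariables false
set_option linter.unusedSectionVars false
set_option autoImplicit false
set_option backward.isDefEq.respectTransparency.types false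
set_option backward.isDefEq.respectTransparency false
set_option synthInstance.maxHeartbeats 400000
set_option maxHeartbeats 1600000

open CategoryTheory CategoryTheory.Limits

namespace Groth.Agent.Helper7.Inertia

universe u

open Groth.Agent.Lib.Helper6

theorem isIndEtale_of_algEquiv {A S S' : Type u} [CommRing A] [CommRing S] [CommRing S']
    [Algebra A S] [Algebra A S'] (e : S ≃ₐ[A] S') (h : EtPBC.IsIndEtale A S) :
    EtPBC.IsIndEtale A S' := by
  obtain ⟨J, i1, i2, D, c, hc, het, ⟨iso⟩⟩ := h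
  refine ⟨J, i1, i2, D, c, hc, het, ⟨iso ≪≫ Under.isoMk e.toRingEquiv.toCommRingCatIso ?_⟩⟩
  ext x
  exact e.commutes x

section DirectedUnion

variable {A L : Type u} [CommRing A] [CommRing L] [Algebra A L]

/-- the index type of a family of subalgebras -/
abbrev DUIdx (𝒥 : Set (Subalgebra A L)) : Type u := {a : Subalgebra A L // a ∈ 𝒥}

/-- the diagram of a family of subalgebras -/
noncomputable def duDiag (𝒥 : Set (Subalgebra A L)) : DUIdx 𝒥 ⥤ Under (CommRingCat.of A) where
  obj a := Under.mk (CommRingCat.ofHom (algebraMap A ↥a.1))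
  map {a b} f := Under.homMk
    (CommRingCat.ofHom (Subalgebra.inclusion (show a.1 ≤ b.1 from leOfHom f)).toRingHom)
    (by ext x; rfl)
  map_id a := by ext x; rfl
  map_comp f g := by ext x; rfl

/-- the cocone over it with vertex a subalgebra containing all of them -/
noncomputable def duCocone (W : Subalgebra A L) (𝒥 : Set (Subalgebra A L))
    (hle : ∀ a ∈ 𝒥, a ≤ W) : Cocone (duDiag 𝒥) where
  pt := Under.mk (CommRingCat.ofHom (algebraMap A ↥W))
  ι :=
    { app := fun a => Under.homMk
        (CommRingCat.ofHom (Subalgebra.inclusion (hle a.1 a.2)).toRingHom) (by ext x; rfl)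
      naturality := fun a b f => by ext x; rfl }

theorem isIndEtale_of_directed_union (W : Subalgebra A L) (𝒥 : Set (Subalgebra A L))
    (hne : 𝒥.Nonempty)
    (hdir : ∀ a ∈ 𝒥, ∀ b ∈ 𝒥, ∃ c ∈ 𝒥, a ≤ c ∧ b ≤ c) (hle : ∀ a ∈ 𝒥, a ≤ W)
    (hcov : ∀ x ∈ W, ∃ a ∈ 𝒥, x ∈ a) (hind : ∀ a ∈ 𝒥, EtPBC.IsIndEtale A ↥a) :
    EtPBC.IsIndEtale A ↥W := by
  classical
  haveI : Nonempty (DUIdx 𝒥) := ⟨⟨hne.some, hne.some_mem⟩⟩
  haveI : IsDirected (DUIdx 𝒥) (· ≤ ·) := ⟨fun a b => by
    obtain ⟨c, hc, h1, h2⟩ := hdir a.1 a.2 b.1 b.2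
    exact ⟨⟨c, hc⟩, h1, h2⟩⟩
  obtain ⟨hc⟩ := IndEtDiag.isColimit_of_elementwise (CommRingCat.of A) (duDiag 𝒥)
    (duCocone W 𝒥 hle)
    (by
      intro x
      obtain ⟨a, ha, hxa⟩ := hcov (x : ↥W).1 (x : ↥W).2
      exact ⟨⟨a, ha⟩, (⟨(x : ↥W).1, hxa⟩ : ↥a), rfl⟩)
    (by
      intro a y y' h
      refine ⟨a, 𝟙 a, ?_⟩
      have h2 : y = y' := Subalgebra.inclusion_injective (hle a.1 a.2) h
      rw [h2])
  refine IndEtObj.filtered_colimit A ↥W (duDiag 𝒥) ?_ (duCocone W 𝒥 hle) hc (Iso.refl _)
  intro j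
  have h : (CommRingCat.ofHom (algebraMap A ↥j.1)).hom.toAlgebra =
      (inferInstance : Algebra A ↥j.1) := Algebra.algebra_ext _ _ (fun r => rfl)
  show @EtPBC.IsIndEtale A ↥j.1 _ _ (CommRingCat.ofHom (algebraMap A ↥j.1)).hom.toAlgebra
  rw [h]
  exact hind j.1 j.2

end DirectedUnion

section Loc

variable {R : Type u} [CommRing R] (M : Submonoid R)

/-- the index type: elements of `M` ordered by divisibility -/
structure LIdx : Type u where
  /-- the element -/
  val : M

variable {M}

instance : Preorder (LIdx M) where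
  le a b := ∃ c : M, b.val = a.val * c
  le_refl a := ⟨1, (mul_one _).symm⟩
  le_trans a b c := fun ⟨x, hx⟩ ⟨y, hy⟩ => ⟨x * y, by rw [hy, hx, mul_assoc]⟩

instance : Nonempty (LIdx M) := ⟨⟨1⟩⟩

instance : IsDirected (LIdx M) (· ≤ ·) :=
  ⟨fun a b => ⟨⟨a.val * b.val⟩, ⟨b.val, rfl⟩, ⟨a.val, mul_comm _ _⟩⟩⟩

theorem LIdx.isUnit_of_le {a b : LIdx M} (h : a ≤ b) :
    IsUnit (algebraMap R (Localization.Away ((b.val : M) : R)) ((a.val : M) : R)) := by
  obtain ⟨c, hc⟩ := h
  have h1 : IsUnit (algebraMap R (Localization.Away ((b.val : M) : R)) ((b.val : M) : R)) :=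
    IsLocalization.Away.algebraMap_isUnit _
  have h2 : ((b.val : M) : R) = ((a.val : M) : R) * ((c : M) : R) := by
    rw [hc, Submonoid.coe_mul]
  have h3 : algebraMap R (Localization.Away ((b.val : M) : R)) ((a.val : M) : R) *
      algebraMap R (Localization.Away ((b.val : M) : R)) ((c : M) : R) =
      algebraMap R (Localization.Away ((b.val : M) : R)) ((b.val : M) : R) := by
    rw [← map_mul, ← h2]
  exact isUnit_of_mul_isUnit_left (by rw [h3]; exact h1)

/-- the transition maps -/
noncomputable def LIdx.tr {a b : LIdx M} (h : a ≤ b) :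
    Localization.Away ((a.val : M) : R) →+* Localization.Away ((b.val : M) : R) :=
  IsLocalization.Away.lift ((a.val : M) : R) (LIdx.isUnit_of_le h)

theorem LIdx.tr_algebraMap {a b : LIdx M} (h : a ≤ b) (r : R) :
    LIdx.tr h (algebraMap R _ r) = algebraMap R _ r :=
  IsLocalization.Away.lift_eq _ _ _

theorem LIdx.tr_self {a : LIdx M} (h : a ≤ a) : LIdx.tr h = RingHom.id _ :=
  IsLocalization.ringHom_ext (Submonoid.powers ((a.val : M) : R))
    (by ext r; simp [LIdx.tr_algebraMap])

theorem LIdx.tr_trans {a b c : LIdx M} (h1 : a ≤ b) (h2 : b ≤ c) (h3 : a ≤ c) :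
    (LIdx.tr h2).comp (LIdx.tr h1) = LIdx.tr h3 :=
  IsLocalization.ringHom_ext (Submonoid.powers ((a.val : M) : R))
    (by ext r; simp [LIdx.tr_algebraMap])

variable (M)

/-- the diagram of localizations away from elements of `M` -/
noncomputable def locDiag : LIdx M ⥤ Under (CommRingCat.of R) where
  obj a := Under.mk (CommRingCat.ofHom (algebraMap R (Localization.Away ((a.val : M) : R))))
  map {a b} f := Under.homMk (CommRingCat.ofHom (LIdx.tr (leOfHom f)))
    (by ext x; exact LIdx.tr_algebraMap (leOfHom f) x)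
  map_id a := by
    ext x
    exact congrArg (fun φ : _ →+* _ => φ x) (LIdx.tr_self (le_refl a))
  map_comp {a b c} f g := by
    ext x
    exact (congrArg (fun φ : _ →+* _ => φ x)
      (LIdx.tr_trans (leOfHom f) (leOfHom g) (leOfHom (f ≫ g)))).symm

variable (S : Type u) [CommRing S] [Algebra R S] [IsLocalization M S]

/-- the maps to the localization -/
noncomputable def LIdx.cm (a : LIdx M) : Localization.Away ((a.val : M) : R) →+* S :=
  IsLocalization.Away.lift ((a.val : M) : R) (g := algebraMap R S)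
    (IsLocalization.map_units S a.val)

theorem LIdx.cm_algebraMap (a : LIdx M) (r : R) :
    LIdx.cm M S a (algebraMap R _ r) = algebraMap R S r :=
  IsLocalization.Away.lift_eq _ _ _

theorem LIdx.cm_tr {a b : LIdx M} (h : a ≤ b) :
    (LIdx.cm M S b).comp (LIdx.tr h) = LIdx.cm M S a :=
  IsLocalization.ringHom_ext (Submonoid.powers ((a.val : M) : R))
    (by ext r; simp [LIdx.tr_algebraMap, LIdx.cm_algebraMap])

/-- the cocone with vertex the localization -/
noncomputable def locCocone : Cocone (locDiag M) where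
  pt := Under.mk (CommRingCat.ofHom (algebraMap R S))
  ι :=
    { app := fun a => Under.homMk (CommRingCat.ofHom (LIdx.cm M S a))
        (by ext x; exact LIdx.cm_algebraMap M S a x)
      naturality := fun a b f => by
        ext x
        exact congrArg (fun φ : _ →+* _ => φ x) (LIdx.cm_tr M S (leOfHom f)) }

theorem locCocone_surj (x : S) :
    ∃ (j : LIdx M) (y : Localization.Away ((j.val : M) : R)), LIdx.cm M S j y = x := by
  obtain ⟨⟨r, m⟩, hx⟩ := IsLocalization.mk'_surjective M x
  refine ⟨⟨m⟩, IsLocalization.mk' (Localization.Away ((m : M) : R)) r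
    (⟨(m : R), Submonoid.mem_powers _⟩ : Submonoid.powers ((m : M) : R)), ?_⟩
  rw [← hx]
  show LIdx.cm M S ⟨m⟩ _ = IsLocalization.mk' S r m
  rw [IsLocalization.eq_mk'_iff_mul_eq]
  have h2 : IsLocalization.mk' (Localization.Away ((m : M) : R)) r
      (⟨(m : R), Submonoid.mem_powers _⟩ : Submonoid.powers ((m : M) : R)) *
      algebraMap R (Localization.Away ((m : M) : R)) ((m : M) : R) =
      algebraMap R _ r := IsLocalization.mk'_spec _ r _
  rw [← LIdx.cm_algebraMap M S ⟨m⟩ ((m : M) : R), ← map_mul, h2, LIdx.cm_algebraMap]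

theorem locCocone_inj (j : LIdx M) (y y' : Localization.Away ((j.val : M) : R))
    (h : LIdx.cm M S j y = LIdx.cm M S j y') :
    ∃ (k : LIdx M) (hjk : j ≤ k), LIdx.tr hjk y = LIdx.tr hjk y' := by
  have h0 : LIdx.cm M S j (y - y') = 0 := by
    rw [map_sub, sub_eq_zero]
    exact h
  obtain ⟨⟨r, s⟩, hz⟩ := IsLocalization.mk'_surjective
    (Submonoid.powers ((j.val : M) : R)) (y - y')
  have hz' : IsLocalization.mk' (Localization.Away ((j.val : M) : R)) r s = y - y' := hz
  have hspec : (y - y') * algebraMap R (Localization.Away ((j.val : M) : R)) (s : R) =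
      algebraMap R _ r := by
    rw [← hz']
    exact IsLocalization.mk'_spec _ r s
  have h1 : algebraMap R S r = 0 := by
    have h2 := congrArg (LIdx.cm M S j) hspec
    rw [map_mul, h0, zero_mul, LIdx.cm_algebraMap] at h2
    exact h2.symm
  obtain ⟨t, ht⟩ := (IsLocalization.map_eq_zero_iff M S r).mp h1
  let k : LIdx M := ⟨j.val * t⟩
  have hjk : j ≤ k := ⟨t, rfl⟩
  have htk : (⟨t⟩ : LIdx M) ≤ k := ⟨j.val, mul_comm _ _⟩
  refine ⟨k, hjk, ?_⟩
  have hu : IsUnit (algebraMap R (Localization.Away ((k.val : M) : R)) ((t : M) : R)) :=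
    LIdx.isUnit_of_le htk
  have hs : IsUnit (algebraMap R (Localization.Away ((k.val : M) : R)) (s : R)) := by
    obtain ⟨n, hn⟩ := s.2
    rw [← hn, map_pow]
    exact (LIdx.isUnit_of_le hjk).pow n
  have e1 : LIdx.tr hjk (y - y') * algebraMap R _ (s : R) = algebraMap R _ r := by
    rw [← LIdx.tr_algebraMap hjk (s : R), ← map_mul, hspec, LIdx.tr_algebraMap]
  have e2 : algebraMap R (Localization.Away ((k.val : M) : R)) r = 0 := by
    have h3 : algebraMap R (Localization.Away ((k.val : M) : R)) (((t : M) : R) * r) = 0 := by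
      rw [ht, map_zero]
    rw [map_mul] at h3
    exact (hu.mul_right_eq_zero).mp h3
  rw [e2] at e1
  have h3 : LIdx.tr hjk (y - y') = 0 := (hs.mul_left_eq_zero).mp e1
  rw [map_sub, sub_eq_zero] at h3
  exact h3

include M in
theorem isIndEtale_of_isLocalization : EtPBC.IsIndEtale R S := by
  classical
  obtain ⟨hc⟩ := IndEtDiag.isColimit_of_elementwise (CommRingCat.of R) (locDiag M)
    (locCocone M S)
    (fun x => by
      obtain ⟨j, y, hy⟩ := locCocone_surj M S x
      exact ⟨j, y, hy⟩)
    (fun j y y' h => by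
      obtain ⟨k, hjk, hk⟩ := locCocone_inj M S j y y' h
      exact ⟨k, homOfLE hjk, hk⟩)
  refine ⟨LIdx M, inferInstance, inferInstance, locDiag M, locCocone M S, hc, ?_, ⟨Iso.refl _⟩⟩
  intro j
  have h : (CommRingCat.ofHom
      (algebraMap R (Localization.Away ((j.val : M) : R)))).hom.toAlgebra =
      (inferInstance : Algebra R (Localization.Away ((j.val : M) : R))) :=
    Algebra.algebra_ext _ _ (fun r => rfl)
  show @Algebra.Etale R (Localization.Away ((j.val : M) : R)) _ _
    (CommRingCat.ofHom (algebraMap R (Localization.Away ((j.val : M) : R)))).hom.toAlgebra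
  rw [h]
  exact Algebra.Etale.of_isLocalizationAway ((j.val : M) : R)

end Loc

end Groth.Agent.Helper7.Inertia
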