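import Mathlib
import Groth.Agent.Lib.Helper7.Inertia.Fin

/-!
# Passing to an infinite Galois extension: good elements for the inertia field
-/

set_option linter.style.haveILetI false
set_option linter.unusedVariables false
set_option linter.unusedSectionVars false
set_option autoImplicit false
set_option backward.isDefEq.respectTransparency.types false
set_option backward.isDefEq.respectTransparency false
set_option synthInstance.maxHeartbeats 400000
set_option maxHeartbeats 1600000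

open scoped Pointwise

namespace Groth.Agent.Helper7.Inertia

section Inq

variable {A L : Type*} [CommRing A] [CommRing L] [Algebra A L] (q : Ideal (integralClosure A L))

/-- membership of an element of `L` in the ideal `q` of the integral closure -/
def Inq (x : L) : Prop := ∃ c ∈ q, (c : L) = x

variable {q}

theorem Inq.isIntegral {x : L} (h : Inq q x) : IsIntegral A x := by
  obtain ⟨c, -, rfl⟩ := h
  exact c.2

theorem inq_iff {x : L} (hx : IsIntegral A x) :
    Inq q x ↔ (⟨x, hx⟩ : integralClosure A L) ∈ q := by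
  constructor
  · rintro ⟨c, hc, hcx⟩
    have h2 : c = ⟨x, hx⟩ := Subtype.ext hcx
    rwa [← h2]
  · intro h
    exact ⟨_, h, rfl⟩

variable (q) in
theorem inq_zero : Inq q (0 : L) := ⟨0, q.zero_mem, rfl⟩

theorem Inq.neg {x : L} (h : Inq q x) : Inq q (-x) := by
  obtain ⟨c, hc, rfl⟩ := h
  exact ⟨-c, q.neg_mem hc, rfl⟩

theorem Inq.add {x y : L} (hx : Inq q x) (hy : Inq q y) : Inq q (x + y) := by
  obtain ⟨c, hc, rfl⟩ := hx
  obtain ⟨d, hd, rfl⟩ := hy
  exact ⟨c + d, q.add_mem hc hd, rfl⟩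

theorem Inq.sub {x y : L} (hx : Inq q x) (hy : Inq q y) : Inq q (x - y) := by
  obtain ⟨c, hc, rfl⟩ := hx
  obtain ⟨d, hd, rfl⟩ := hy
  exact ⟨c - d, q.sub_mem hc hd, rfl⟩

theorem Inq.mul_left {x : L} (b : L) (hb : IsIntegral A b) (hx : Inq q x) : Inq q (b * x) := by
  obtain ⟨c, hc, rfl⟩ := hx
  exact ⟨⟨b, hb⟩ * c, q.mul_mem_left _ hc, rfl⟩

theorem inq_or_of_mul [q.IsPrime] {x y : L} (hx : IsIntegral A x) (hy : IsIntegral A y)
    (h : Inq q (x * y)) : Inq q x ∨ Inq q y := by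
  obtain ⟨c, hc, hcxy⟩ := h
  have h2 : c = (⟨x, hx⟩ : integralClosure A L) * ⟨y, hy⟩ := Subtype.ext hcxy
  rw [h2] at hc
  rcases Ideal.IsPrime.mem_or_mem inferInstance hc with h1 | h1
  · exact Or.inl ⟨_, h1, rfl⟩
  · exact Or.inr ⟨_, h1, rfl⟩

theorem not_inq_one [q.IsPrime] : ¬ Inq q (1 : L) := by
  rintro ⟨c, hc, hc1⟩
  have h2 : c = 1 := Subtype.ext hc1
  rw [h2] at hc
  exact (Ideal.IsPrime.ne_top inferInstance) ((Ideal.eq_top_iff_one q).mpr hc)

end Inq

section Inf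

variable {A K L : Type*} [CommRing A] [IsDomain A] [IsIntegrallyClosed A] [Field K] [Field L]
  [Algebra A K] [IsFractionRing A K] [Algebra K L] [Algebra A L] [IsScalarTower A K L]
  [IsGalois K L] (q : Ideal (integralClosure A L)) [q.IsPrime]

/-- the inertia condition -/
def InI (σ : L ≃ₐ[K] L) : Prop := ∀ b : integralClosure A L, Inq q (σ b - b)

omit [IsDomain A] [IsIntegrallyClosed A] [IsFractionRing A K] [Algebra A L] [IsScalarTower A K L]
  [CommRing A] [Algebra A K] in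
theorem isOpen_setOf_apply_mem (b : L) (S : Set L) : IsOpen {σ : L ≃ₐ[K] L | σ b ∈ S} := by
  haveI : Algebra.IsIntegral K L := inferInstance
  rw [isOpen_iff_forall_mem_open]
  intro σ₀ hσ₀
  refine ⟨σ₀ • (MulAction.stabilizer (L ≃ₐ[K] L) b : Set (L ≃ₐ[K] L)), ?_,
    (stabilizer_isOpen_of_isIntegral b).leftCoset σ₀, ?_⟩
  · rintro _ ⟨τ, hτ, rfl⟩
    have h2 : τ b = b := hτ
    show (σ₀ * τ) b ∈ S
    rw [AlgEquiv.mul_apply, h2]
    exact hσ₀
  · exact ⟨1, (MulAction.stabilizer (L ≃ₐ[K] L) b).one_mem, mul_one σ₀⟩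

omit [IsDomain A] [IsIntegrallyClosed A] [IsFractionRing A K] [Algebra A L] [IsScalarTower A K L]
  [CommRing A] [Algebra A K] in
theorem isClosed_setOf_apply_mem (b : L) (S : Set L) : IsClosed {σ : L ≃ₐ[K] L | σ b ∈ S} := by
  have h : {σ : L ≃ₐ[K] L | σ b ∈ S}ᶜ = {σ : L ≃ₐ[K] L | σ b ∈ Sᶜ} := rfl
  exact isOpen_compl_iff.mp (by rw [h]; exact isOpen_setOf_apply_mem b Sᶜ)

theorem exists_finset_of_fixed (x : L) (hx : ∀ σ : L ≃ₐ[K] L, InI q σ → σ x = x) :
    ∃ T : Finset (integralClosure A L), ∀ σ : L ≃ₐ[K] L,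
      (∀ b ∈ T, Inq q (σ b - b)) → σ x = x := by
  classical
  have hU : IsOpen {σ : L ≃ₐ[K] L | σ x = x} := isOpen_setOf_apply_mem x {x}
  have hK : IsCompact ({σ : L ≃ₐ[K] L | σ x = x}ᶜ) := hU.isClosed_compl.isCompact
  have hC : ∀ b : integralClosure A L, IsClosed {σ : L ≃ₐ[K] L | Inq q (σ b - b)} :=
    fun b => isClosed_setOf_apply_mem (b : L) {z : L | Inq q (z - b)}
  obtain ⟨u, hu⟩ := hK.elim_finite_subfamily_closed
    (fun b : integralClosure A L => {σ : L ≃ₐ[K] L | Inq q (σ b - b)}) hC (by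
      ext σ
      simp only [Set.mem_inter_iff, Set.mem_compl_iff, Set.mem_setOf_eq, Set.mem_iInter,
        Set.mem_empty_iff_false, iff_false, not_and]
      intro hne hall
      exact hne (hx σ hall))
  refine ⟨u, fun σ hσ => ?_⟩
  by_contra hne
  have h2 : σ ∈ ({σ : L ≃ₐ[K] L | σ x = x}ᶜ ∩
      ⋂ i ∈ u, {σ : L ≃ₐ[K] L | Inq q (σ i - i)}) := by
    refine ⟨hne, ?_⟩
    simp only [Set.mem_iInter]
    intro b hb
    exact hσ b hb
  rw [hu] at h2
  exact h2

theorem exists_finset_of_fixed_finset (F : Finset L)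
    (hF : ∀ x ∈ F, ∀ σ : L ≃ₐ[K] L, InI q σ → σ x = x) :
    ∃ T : Finset (integralClosure A L), ∀ σ : L ≃ₐ[K] L,
      (∀ b ∈ T, Inq q (σ b - b)) → ∀ x ∈ F, σ x = x := by
  classical
  induction F using Finset.induction_on with
  | empty => exact ⟨∅, fun σ _ x hx => absurd hx (Finset.notMem_empty x)⟩
  | insert a s ha ih =>
    obtain ⟨T₁, hT₁⟩ := ih (fun x hx => hF x (Finset.mem_insert_of_mem hx))
    obtain ⟨T₂, hT₂⟩ := exists_finset_of_fixed q a (hF a (Finset.mem_insert_self a s))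
    refine ⟨T₁ ∪ T₂, fun σ hσ x hx => ?_⟩
    rcases Finset.mem_insert.mp hx with rfl | hx
    · exact hT₂ σ (fun b hb => hσ b (Finset.mem_union_right _ hb))
    · exact hT₁ σ (fun b hb => hσ b (Finset.mem_union_left _ hb)) x hx

section Level

variable (M : IntermediateField K L)

/-- the inclusion as an `A`-algebra map -/
noncomputable def valA : ↥M →ₐ[A] L := M.val.restrictScalars A

/-- the contracted prime at the level `M` -/
noncomputable def qM : Ideal (integralClosure A ↥M) :=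
  q.comap (valA (A := A) M).mapIntegralClosure

instance qM_isPrime : (qM q M).IsPrime := Ideal.comap_isPrime _ _

theorem inq_level_iff (x : M) : Inq (qM q M) x ↔ Inq q (x : L) := by
  constructor
  · rintro ⟨c, hc, rfl⟩
    exact ⟨(valA (A := A) M).mapIntegralClosure c, hc, rfl⟩
  · rintro ⟨c, hc, hcx⟩
    have hint : IsIntegral A x := by
      have h2 : IsIntegral A (valA (A := A) M x) := by
        show IsIntegral A (x : L)
        rw [← hcx]
        exact c.2
      exact (isIntegral_algHom_iff (valA (A := A) M) Subtype.val_injective).mp h2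
    refine ⟨⟨x, hint⟩, ?_, rfl⟩
    show (valA (A := A) M).mapIntegralClosure ⟨x, hint⟩ ∈ q
    have h3 : (valA (A := A) M).mapIntegralClosure ⟨x, hint⟩ = c := Subtype.ext hcx.symm
    rw [h3]
    exact hc

theorem exists_good_elt_of_level [FiniteDimensional K M] [IsGalois K M]
    (T : Finset (integralClosure A L)) (hT : ∀ b ∈ T, (b : L) ∈ M)
    (F : Finset L) (hFM : ∀ x ∈ F, x ∈ M)
    (hTF : ∀ σ : L ≃ₐ[K] L, (∀ b ∈ T, Inq q (σ b - b)) → ∀ x ∈ F, σ x = x) :
    ∃ y : L, IsIntegral A y ∧ (∀ σ : L ≃ₐ[K] L, InI q σ → σ y = y) ∧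
      (∀ σ : L ≃ₐ[K] L, σ y = y ∨ ¬ Inq q (σ y - y)) ∧
      ∀ x ∈ F, x ∈ Algebra.adjoin K {y} := by
  obtain ⟨y₀, hy0, hy1, hy2⟩ := fin_main A K ↥M (qM q M)
  have hy1' : ∀ τ : ↥M ≃ₐ[K] ↥M,
      (∀ b : integralClosure A ↥M, Inq (qM q M) (τ b - b)) → τ y₀ = y₀ := hy1
  have hy2' : ∀ τ : ↥M ≃ₐ[K] ↥M,
      (¬ ∀ b : integralClosure A ↥M, Inq (qM q M) (τ b - b)) →
        ¬ Inq (qM q M) (τ y₀ - y₀) := hy2
  have tr : ∀ (σ : L ≃ₐ[K] L) (τ : ↥M ≃ₐ[K] ↥M), (∀ x : M, σ (x : L) = ((τ x : M) : L)) →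
      ∀ x : M, (Inq (qM q M) (τ x - x) ↔ Inq q (σ (x : L) - x)) := by
    intro σ τ hc x
    have e : ((τ x - x : M) : L) = ((τ x : M) : L) - (x : L) := rfl
    rw [inq_level_iff, e, ← hc x]
  have hres : ∀ σ : L ≃ₐ[K] L, ∀ x : M, σ (x : L) = ((σ.restrictNormal ↥M x : M) : L) :=
    fun σ x => (AlgEquiv.restrictNormal_apply M σ x).symm
  have hInI : ∀ σ : L ≃ₐ[K] L, InI q σ →
      ∀ b : integralClosure A ↥M, Inq (qM q M) ((σ.restrictNormal ↥M) b - b) := by
    intro σ hσ b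
    rw [tr σ _ (hres σ) b]
    exact hσ ((valA (A := A) M).mapIntegralClosure b)
  refine ⟨(y₀ : L), hy0.map (valA (A := A) M), fun σ hσ => ?_, fun σ => ?_, fun x hx => ?_⟩
  · rw [hres σ y₀, hy1' _ (hInI σ hσ)]
  · by_cases h : ∀ b : integralClosure A ↥M, Inq (qM q M) ((σ.restrictNormal ↥M) b - b)
    · left
      rw [hres σ y₀, hy1' _ h]
    · right
      intro hq
      exact hy2' _ h ((tr σ _ (hres σ) y₀).mpr hq)
  · have hx' : (⟨x, hFM x hx⟩ : M) ∈ Algebra.adjoin K {y₀} := by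
      apply mem_adjoin_of_fixed K ↥M y₀ ⟨x, hFM x hx⟩
      intro τ hτ
      have hall : ∀ b : integralClosure A ↥M, Inq (qM q M) (τ b - b) := by
        by_contra hcon
        apply hy2' τ hcon
        rw [hτ, sub_self]
        exact inq_zero _
      have hlift : ∀ z : M, (τ.liftNormal L) (z : L) = ((τ z : M) : L) :=
        fun z => τ.liftNormal_commutes L z
      have hTσ : ∀ b ∈ T, Inq q ((τ.liftNormal L) b - b) := by
        intro b hb
        have hbint : IsIntegral A (⟨(b : L), hT b hb⟩ : M) :=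
          (isIntegral_algHom_iff (valA (A := A) M) Subtype.val_injective).mp b.2
        exact (tr _ τ hlift ⟨(b : L), hT b hb⟩).mp (hall ⟨⟨(b : L), hT b hb⟩, hbint⟩)
      have h5 := hTF _ hTσ x hx
      apply Subtype.ext
      rw [← hlift ⟨x, hFM x hx⟩]
      exact h5
    have h3 : M.val ⟨x, hFM x hx⟩ ∈ (Algebra.adjoin K {y₀}).map M.val :=
      Subalgebra.mem_map.mpr ⟨_, hx', rfl⟩
    rw [AlgHom.map_adjoin_singleton] at h3
    exact h3

end Level

theorem exists_good_elt (F : Finset L)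
    (hF : ∀ x ∈ F, ∀ σ : L ≃ₐ[K] L, InI q σ → σ x = x) :
    ∃ y : L, IsIntegral A y ∧ (∀ σ : L ≃ₐ[K] L, InI q σ → σ y = y) ∧
      (∀ σ : L ≃ₐ[K] L, σ y = y ∨ ¬ Inq q (σ y - y)) ∧
      ∀ x ∈ F, x ∈ Algebra.adjoin K {y} := by
  classical
  obtain ⟨T, hT⟩ := exists_finset_of_fixed_finset q F hF
  let S₀ : Set L := ↑(T.image (fun b : integralClosure A L => (b : L)) ∪ F)
  haveI : Finite S₀ := (Finset.finite_toSet _).to_subtype
  let M := FiniteGaloisIntermediateField.adjoin K S₀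
  have hS : S₀ ⊆ M.toIntermediateField := FiniteGaloisIntermediateField.subset_adjoin K S₀
  refine exists_good_elt_of_level q M.toIntermediateField T (fun b hb => hS ?_) F
    (fun x hx => hS ?_) hT
  · exact Finset.mem_coe.mpr (Finset.mem_union_left _ (Finset.mem_image_of_mem _ hb))
  · exact Finset.mem_coe.mpr (Finset.mem_union_right _ hx)

end Inf

end Groth.Agent.Helper7.Inertia
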