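import Mathlib
import Groth.Prelude.Def_PBC
import Groth.Agent.Lib.Helper7.Inertia.IndEt
import Groth.Agent.Lib.Helper7.Inertia.Inf
import Groth.Agent.Lib.Helper6.Normal.Etale

/-!
# The localization of the inertia invariants is ind-etale
-/

set_option linter.style.haveILetI false
set_option linter.unusedVariables false
set_option linter.unusedSectionVars false
set_option autoImplicit false
set_option backward.isDefEq.respectTransparency.types false
set_option backward.isDefEq.respectTransparency false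
set_option synthInstance.maxHeartbeats 400000
set_option maxHeartbeats 1600000

open scoped Pointwise

namespace Groth.Agent.Helper7.Inertia

universe u

theorem ic_lemma {R L : Type*} [CommRing R] [IsDomain R] [IsIntegrallyClosed R] [Field L]
    [Algebra R L] [FaithfulSMul R L] (b : L) (e₁ e₂ : R) (he₂ : e₂ ≠ 0)
    (hb : b * algebraMap R L e₂ = algebraMap R L e₁) (hint : IsIntegral R b) :
    ∃ e : R, algebraMap R L e = b := by
  have hinj : Function.Injective (algebraMap R L) := FaithfulSMul.algebraMap_injective R L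
  let ψ : FractionRing R →+* L := IsFractionRing.lift hinj
  have hψ : ∀ r : R, ψ (algebraMap R (FractionRing R) r) = algebraMap R L r :=
    fun r => IsFractionRing.lift_algebraMap hinj r
  have he₂' : algebraMap R L e₂ ≠ 0 := fun h => he₂ (hinj (h.trans (map_zero _).symm))
  let β : FractionRing R := algebraMap R (FractionRing R) e₁ / algebraMap R (FractionRing R) e₂
  have hβ : ψ β = b := by
    show ψ (algebraMap R (FractionRing R) e₁ / algebraMap R (FractionRing R) e₂) = b
    rw [map_div₀, hψ, hψ, div_eq_iff he₂', hb]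
  have hβint : IsIntegral R β := by
    obtain ⟨p, hp, hpb⟩ := hint
    refine ⟨p, hp, ψ.injective ?_⟩
    rw [map_zero, Polynomial.hom_eval₂, hβ]
    have hcomp : ψ.comp (algebraMap R (FractionRing R)) = algebraMap R L := RingHom.ext hψ
    rw [hcomp]
    exact hpb
  obtain ⟨e, he⟩ := IsIntegrallyClosed.algebraMap_eq_of_integral hβint
  exact ⟨e, by rw [← hψ, he, hβ]⟩

section Main

variable {A K L : Type u} [CommRing A] [IsDomain A] [IsIntegrallyClosed A] [Field K] [Field L]
  [Algebra A K] [IsFractionRing A K] [Algebra K L] [Algebra A L] [IsScalarTower A K L]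
  [IsGalois K L] (q : Ideal (integralClosure A L)) [q.IsPrime]

theorem inq_of_pow {x : L} (hx : IsIntegral A x) (n : ℕ) (h : Inq q (x ^ n)) : Inq q x := by
  induction n with
  | zero =>
    rw [pow_zero] at h
    exact absurd h not_inq_one
  | succ n ih =>
    rw [pow_succ] at h
    rcases inq_or_of_mul (hx.pow n) hx h with h1 | h1
    · exact ih h1
    · exact h1

theorem exists_inq_of_prod (m : Multiset L) (hm : ∀ x ∈ m, IsIntegral A x)
    (h : Inq q m.prod) : ∃ x ∈ m, Inq q x := by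
  induction m using Multiset.induction_on with
  | empty =>
    rw [Multiset.prod_zero] at h
    exact absurd h not_inq_one
  | cons a s ih =>
    rw [Multiset.prod_cons] at h
    have ha : IsIntegral A a := hm a (Multiset.mem_cons_self a s)
    have hs : IsIntegral A s.prod :=
      IsIntegral.multiset_prod (fun x hx => hm x (Multiset.mem_cons_of_mem hx))
    rcases inq_or_of_mul ha hs h with h1 | h1
    · exact ⟨a, Multiset.mem_cons_self a s, h1⟩
    · obtain ⟨x, hx, hxq⟩ := ih (fun x hx => hm x (Multiset.mem_cons_of_mem hx)) h1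
      exact ⟨x, Multiset.mem_cons_of_mem hx, hxq⟩

/-- the localization of `B ∩ M₀` at `q`, inside `L` -/
def locAt (M₀ : Subalgebra A L) : Subalgebra A L where
  carrier := {x | ∃ b s : L, IsIntegral A b ∧ IsIntegral A s ∧ b ∈ M₀ ∧ s ∈ M₀ ∧
    ¬ Inq q s ∧ x * s = b}
  mul_mem' := by
    rintro x₁ x₂ ⟨b₁, s₁, hb₁, hs₁, hb₁M, hs₁M, hs₁q, h₁⟩ ⟨b₂, s₂, hb₂, hs₂, hb₂M, hs₂M, hs₂q, h₂⟩
    refine ⟨b₁ * b₂, s₁ * s₂, hb₁.mul hb₂, hs₁.mul hs₂, M₀.mul_mem hb₁M hb₂M,
      M₀.mul_mem hs₁M hs₂M, ?_, ?_⟩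
    · intro h
      rcases inq_or_of_mul hs₁ hs₂ h with h | h
      · exact hs₁q h
      · exact hs₂q h
    · rw [← h₁, ← h₂]
      ring
  add_mem' := by
    rintro x₁ x₂ ⟨b₁, s₁, hb₁, hs₁, hb₁M, hs₁M, hs₁q, h₁⟩ ⟨b₂, s₂, hb₂, hs₂, hb₂M, hs₂M, hs₂q, h₂⟩
    refine ⟨b₁ * s₂ + b₂ * s₁, s₁ * s₂, (hb₁.mul hs₂).add (hb₂.mul hs₁), hs₁.mul hs₂,
      M₀.add_mem (M₀.mul_mem hb₁M hs₂M) (M₀.mul_mem hb₂M hs₁M), M₀.mul_mem hs₁M hs₂M, ?_, ?_⟩
    · intro h
      rcases inq_or_of_mul hs₁ hs₂ h with h | h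
      · exact hs₁q h
      · exact hs₂q h
    · rw [← h₁, ← h₂]
      ring
  algebraMap_mem' a := ⟨algebraMap A L a, 1, isIntegral_algebraMap, isIntegral_one,
    M₀.algebraMap_mem a, M₀.one_mem, not_inq_one, by rw [mul_one]⟩

theorem mem_locAt {M₀ : Subalgebra A L} {x : L} : x ∈ locAt q M₀ ↔
    ∃ b s : L, IsIntegral A b ∧ IsIntegral A s ∧ b ∈ M₀ ∧ s ∈ M₀ ∧ ¬ Inq q s ∧ x * s = b :=
  Iff.rfl

theorem locAt_mono {M₁ M₂ : Subalgebra A L} (h : M₁ ≤ M₂) : locAt q M₁ ≤ locAt q M₂ := by
  rintro x ⟨b, s, hb, hs, hbM, hsM, hsq, hx⟩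
  exact ⟨b, s, hb, hs, h hbM, h hsM, hsq, hx⟩

variable (K) in
/-- `K[y]` as an `A`-subalgebra -/
def Ky (y : L) : Subalgebra A L := (Algebra.adjoin K {y}).restrictScalars A

theorem mem_Ky {y x : L} : x ∈ (Ky K y : Subalgebra A L) ↔ x ∈ Algebra.adjoin K {y} := Iff.rfl

theorem not_inq_derivative (y : L) (hy : IsIntegral A y)
    (hy3 : ∀ σ : L ≃ₐ[K] L, σ y = y ∨ ¬ Inq q (σ y - y)) :
    ¬ Inq q (Polynomial.aeval y (Polynomial.derivative (minpoly A y))) := by
  classical
  have hmonic : (minpoly A y).Monic := minpoly.monic hy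
  have hfK : minpoly K y = (minpoly A y).map (algebraMap A K) :=
    minpoly.isIntegrallyClosed_eq_field_fractions' K hy
  have hfL : (minpoly A y).map (algebraMap A L) = (minpoly K y).map (algebraMap K L) := by
    rw [hfK, Polynomial.map_map, ← IsScalarTower.algebraMap_eq]
  have hsplit : ((minpoly A y).map (algebraMap A L)).Splits := by
    rw [hfL]
    exact Normal.splits (inferInstance : Normal K L) y
  have hfLmonic : ((minpoly A y).map (algebraMap A L)).Monic := hmonic.map _
  have hsep : ((minpoly A y).map (algebraMap A L)).Separable := by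
    rw [hfL]
    exact Polynomial.Separable.map (Algebra.IsSeparable.isSeparable K y : (minpoly K y).Separable)
  have hyroot : y ∈ ((minpoly A y).map (algebraMap A L)).roots := by
    rw [Polynomial.mem_roots hfLmonic.ne_zero, Polynomial.IsRoot.def,
      Polynomial.eval_map_algebraMap]
    exact minpoly.aeval A y
  have hder : Polynomial.aeval y (Polynomial.derivative (minpoly A y)) =
      ((((minpoly A y).map (algebraMap A L)).roots.erase y).map (y - ·)).prod := by
    rw [← hsplit.eval_root_derivative hfLmonic hyroot, Polynomial.derivative_map,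
      Polynomial.eval_map_algebraMap]
  rw [hder]
  intro hq
  have hrootint : ∀ a ∈ ((minpoly A y).map (algebraMap A L)).roots, IsIntegral A a := by
    intro a ha
    have h1 := (Polynomial.mem_roots hfLmonic.ne_zero).mp ha
    rw [Polynomial.IsRoot.def, Polynomial.eval_map] at h1
    exact ⟨minpoly A y, hmonic, h1⟩
  obtain ⟨z, hz, hzq⟩ := exists_inq_of_prod q _ (by
    intro z hz
    obtain ⟨a, ha, rfl⟩ := Multiset.mem_map.mp hz
    exact hy.sub (hrootint a (Multiset.mem_of_mem_erase ha))) hq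
  obtain ⟨a, ha, rfl⟩ := Multiset.mem_map.mp hz
  have hnd : ((minpoly A y).map (algebraMap A L)).roots.Nodup := Polynomial.nodup_roots hsep
  obtain ⟨hne, ha'⟩ := (hnd.mem_erase_iff).mp ha
  have haroot : Polynomial.aeval a (minpoly K y) = 0 := by
    have h1 := (Polynomial.mem_roots hfLmonic.ne_zero).mp ha'
    rw [Polynomial.IsRoot.def, hfL, Polynomial.eval_map_algebraMap] at h1
    exact h1
  obtain ⟨σ, hσ⟩ := minpoly.exists_algEquiv_of_root' (Algebra.IsAlgebraic.isAlgebraic y) haroot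
  rcases hy3 σ with h | h
  · exact hne (hσ.symm.trans h)
  · apply h
    rw [hσ]
    have h2 := hzq.neg
    rwa [neg_sub] at h2

theorem isIndEtale_locAt_Ky (y : L) (hy : IsIntegral A y)
    (hy3 : ∀ σ : L ≃ₐ[K] L, σ y = y ∨ ¬ Inq q (σ y - y)) :
    EtPBC.IsIndEtale A ↥(locAt q (Ky K y : Subalgebra A L)) := by
  classical
  have hmonic : (minpoly A y).Monic := minpoly.monic hy
  have hdq : ¬ Inq q (Polynomial.aeval y (Polynomial.derivative (minpoly A y))) :=
    not_inq_derivative q y hy hy3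
  have hd0 : Polynomial.aeval y (Polynomial.derivative (minpoly A y)) ≠ 0 :=
    fun h => hdq (h ▸ inq_zero q)
  haveI hAL : FaithfulSMul A L := (faithfulSMul_iff_algebraMap_injective A L).mpr (by
    rw [IsScalarTower.algebraMap_eq A K L]
    exact (algebraMap K L).injective.comp (IsFractionRing.injective A K))
  let P : StandardEtalePair A :=
    ⟨minpoly A y, hmonic, Polynomial.derivative (minpoly A y), ⟨1, 0, 1, by simp⟩⟩
  have hmap : P.HasMap y := ⟨minpoly.aeval A y, IsUnit.mk0 _ hd0⟩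
  let φ : P.Ring →ₐ[A] L := P.lift y hmap
  have hφX : φ P.X = y := P.lift_X y hmap
  have hXf : Polynomial.aeval P.X (minpoly A y) = 0 := P.hasMap_X.1
  have hXu : IsUnit (Polynomial.aeval P.X (Polynomial.derivative (minpoly A y))) := P.hasMap_X.2
  -- polynomial expressions in `y`
  have hAy_int : ∀ p : Polynomial A, IsIntegral A (Polynomial.aeval y p) := fun p =>
    (Algebra.adjoin_le (Set.singleton_subset_iff.mpr hy) :
      Algebra.adjoin A {y} ≤ integralClosure A L) (Polynomial.aeval_mem_adjoin_singleton A y)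
  have hAy_Ky : ∀ p : Polynomial A, Polynomial.aeval y p ∈ (Ky K y : Subalgebra A L) := fun p =>
    (Algebra.adjoin_le (Set.singleton_subset_iff.mpr
      (mem_Ky.mpr (Algebra.self_mem_adjoin_singleton K y))) :
      Algebra.adjoin A {y} ≤ (Ky K y : Subalgebra A L)) (Polynomial.aeval_mem_adjoin_singleton A y)
  -- description of the elements of the standard etale algebra
  have hdesc0 : ∀ x : P.Ring, ∃ (p : Polynomial A) (n : ℕ),
      x * Polynomial.aeval P.X (Polynomial.derivative (minpoly A y)) ^ n =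
        Polynomial.aeval P.X p := by
    intro x
    let SP : StandardEtalePresentation A P.Ring :=
      ⟨P, P.X, P.hasMap_X, by simpa [StandardEtalePair.lift_X_left] using Function.bijective_id⟩
    exact SP.exists_mul_aeval_x_g_pow_eq_aeval_x x
  have hdesc : ∀ x : P.Ring, ∃ (p : Polynomial A) (n : ℕ),
      φ x * Polynomial.aeval y (Polynomial.derivative (minpoly A y)) ^ n =
        Polynomial.aeval y p := by
    intro x
    obtain ⟨p, n, hpn⟩ := hdesc0 x
    refine ⟨p, n, ?_⟩
    have h1 := congrArg φ hpn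
    rw [map_mul, map_pow, ← Polynomial.aeval_algHom_apply, ← Polynomial.aeval_algHom_apply,
      hφX] at h1
    exact h1
  have hφmem : ∀ x : P.Ring, φ x ∈ locAt q (Ky K y : Subalgebra A L) := by
    intro x
    obtain ⟨p, n, hpn⟩ := hdesc x
    refine ⟨Polynomial.aeval y p,
      Polynomial.aeval y (Polynomial.derivative (minpoly A y)) ^ n, hAy_int p,
      (hAy_int _).pow n, hAy_Ky p, (Ky K y : Subalgebra A L).pow_mem (hAy_Ky _) n, ?_, hpn⟩
    intro h
    exact hdq (inq_of_pow q (hAy_int _) n h)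
  have hφinj : Function.Injective φ := by
    rw [injective_iff_map_eq_zero]
    intro x hx
    obtain ⟨p, n, hpn⟩ := hdesc0 x
    have h1 : Polynomial.aeval y p = 0 := by
      have h2 := congrArg φ hpn
      rw [map_mul, hx, zero_mul, ← Polynomial.aeval_algHom_apply, hφX] at h2
      exact h2.symm
    obtain ⟨r, rfl⟩ := minpoly.isIntegrallyClosed_dvd hy h1
    have h3 : Polynomial.aeval P.X (minpoly A y * r) = 0 := by
      rw [map_mul, hXf, zero_mul]
    rw [h3] at hpn
    exact (hXu.pow n).mul_left_eq_zero.mp hpn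
  haveI : IsDomain P.Ring := hφinj.isDomain φ.toRingHom
  have hnorm := Groth.Agent.Lib.Helper6.Normal.isNormalRing_of_etale A P.Ring
  haveI : IsIntegrallyClosed P.Ring :=
    IsIntegrallyClosed.of_localization_maximal (fun p _ _ => (hnorm p).2)
  letI algPL : Algebra P.Ring L := φ.toRingHom.toAlgebra
  haveI : IsScalarTower A P.Ring L :=
    IsScalarTower.of_algebraMap_eq (fun a => (φ.commutes a).symm)
  haveI : FaithfulSMul P.Ring L := (faithfulSMul_iff_algebraMap_injective P.Ring L).mpr hφinj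
  -- integral elements of `K[y]` come from the standard etale algebra
  have hIC : ∀ b : L, IsIntegral A b → b ∈ (Ky K y : Subalgebra A L) → ∃ e : P.Ring, φ e = b := by
    intro b hb hbK
    have hbK' : b ∈ Algebra.adjoin K {y} := hbK
    rw [Algebra.adjoin_singleton_eq_range_aeval] at hbK'
    obtain ⟨pK, hpK⟩ := hbK'
    have hpK' : Polynomial.aeval y pK = b := hpK
    obtain ⟨a, haM, ha⟩ := IsLocalization.integerNormalization_spec (nonZeroDivisors A) pK
    have h1 : Polynomial.aeval y (IsLocalization.integerNormalization (nonZeroDivisors A) pK) =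
        algebraMap A L a * b := by
      rw [← Polynomial.aeval_map_algebraMap K y, ha, ← algebraMap_smul K a pK, map_smul,
        Algebra.smul_def, ← IsScalarTower.algebraMap_apply, hpK']
    have ha0 : algebraMap A P.Ring a ≠ 0 := by
      intro h
      have h2 : algebraMap A L a = 0 := by
        rw [← φ.commutes, h, map_zero]
      exact nonZeroDivisors.ne_zero haM (FaithfulSMul.algebraMap_injective A L
        (h2.trans (map_zero _).symm))
    obtain ⟨e, he⟩ := ic_lemma b
      (Polynomial.aeval P.X (IsLocalization.integerNormalization (nonZeroDivisors A) pK))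
      (algebraMap A P.Ring a) ha0 (by
        show b * φ (algebraMap A P.Ring a) = φ (Polynomial.aeval P.X _)
        rw [φ.commutes, ← Polynomial.aeval_algHom_apply, hφX, h1, mul_comm]) hb.tower_top
    exact ⟨e, he⟩
  -- the map to the localization
  let φ' : P.Ring →ₐ[A] ↥(locAt q (Ky K y : Subalgebra A L)) :=
    φ.codRestrict (locAt q (Ky K y : Subalgebra A L)) hφmem
  have hφ'coe : ∀ x : P.Ring, ((φ' x : ↥(locAt q (Ky K y : Subalgebra A L))) : L) = φ x :=
    fun x => rfl
  letI algPS : Algebra P.Ring ↥(locAt q (Ky K y : Subalgebra A L)) := φ'.toRingHom.toAlgebra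
  haveI : IsScalarTower A P.Ring ↥(locAt q (Ky K y : Subalgebra A L)) :=
    IsScalarTower.of_algebraMap_eq (fun a => (φ'.commutes a).symm)
  let M : Submonoid P.Ring := (IsUnit.submonoid ↥(locAt q (Ky K y : Subalgebra A L))).comap
    (φ' : P.Ring →* ↥(locAt q (Ky K y : Subalgebra A L)))
  have hM : ∀ x : P.Ring, x ∈ M ↔ IsUnit (φ' x) := fun x => Iff.rfl
  haveI hloc : IsLocalization M ↥(locAt q (Ky K y : Subalgebra A L)) := by
    refine (isLocalization_iff M _).mpr ⟨?_, ?_, ?_⟩
    · intro m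
      exact (hM m.1).mp m.2
    · rintro ⟨z, b, s, hb, hs, hbK, hsK, hsq, hz⟩
      obtain ⟨eb, heb⟩ := hIC b hb hbK
      obtain ⟨es, hes⟩ := hIC s hs hsK
      have hs0 : s ≠ 0 := fun h => hsq (h ▸ inq_zero q)
      have hesM : es ∈ M := by
        rw [hM]
        refine isUnit_iff_exists_inv.mpr ⟨⟨s⁻¹, ⟨1, s, isIntegral_one, hs,
          (Ky K y : Subalgebra A L).one_mem, hsK, hsq, inv_mul_cancel₀ hs0⟩⟩, Subtype.ext ?_⟩
        show φ es * s⁻¹ = 1
        rw [hes]
        exact mul_inv_cancel₀ hs0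
      refine ⟨(eb, ⟨es, hesM⟩), Subtype.ext ?_⟩
      show z * φ es = φ eb
      rw [hes, heb, hz]
    · intro x₁ x₂ h
      refine ⟨1, ?_⟩
      have h2 : φ x₁ = φ x₂ := congrArg Subtype.val h
      rw [hφinj h2]
  have h1 : EtPBC.IsIndEtale A P.Ring :=
    Groth.Agent.Lib.Helper6.IndEtLift.isIndEtale_of_etale A P.Ring
  have h2 : EtPBC.IsIndEtale P.Ring ↥(locAt q (Ky K y : Subalgebra A L)) :=
    isIndEtale_of_isLocalization M ↥(locAt q (Ky K y : Subalgebra A L))
  exact Groth.Agent.Lib.Helper6.IndEtComp.comp A P.Ring _ h1 h2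

theorem isIndEtale_locAt_fixed (I : Subgroup (L ≃ₐ[K] L))
    (hI : ∀ σ : L ≃ₐ[K] L, σ ∈ I ↔ InI q σ) :
    EtPBC.IsIndEtale A
      ↥(locAt q ((IntermediateField.fixedField I).toSubalgebra.restrictScalars A)) := by
  classical
  have hFI : ∀ x : L, x ∈ ((IntermediateField.fixedField I).toSubalgebra.restrictScalars A) ↔
      ∀ σ : L ≃ₐ[K] L, InI q σ → σ x = x := by
    intro x
    show x ∈ IntermediateField.fixedField I ↔ _
    rw [IntermediateField.mem_fixedField_iff]
    exact ⟨fun h σ hσ => h σ ((hI σ).mpr hσ), fun h σ hσ => h σ ((hI σ).mp hσ)⟩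
  have hKy_le : ∀ y₁ y : L, y₁ ∈ Algebra.adjoin K {y} →
      (Ky K y₁ : Subalgebra A L) ≤ Ky K y := by
    intro y₁ y h x hx
    exact (Algebra.adjoin_le (Set.singleton_subset_iff.mpr h) :
      Algebra.adjoin K {y₁} ≤ Algebra.adjoin K {y}) hx
  refine isIndEtale_of_directed_union
    (locAt q ((IntermediateField.fixedField I).toSubalgebra.restrictScalars A))
    {a | ∃ y : L, IsIntegral A y ∧ (∀ σ : L ≃ₐ[K] L, InI q σ → σ y = y) ∧
      (∀ σ : L ≃ₐ[K] L, σ y = y ∨ ¬ Inq q (σ y - y)) ∧ a = locAt q (Ky K y)} ?_ ?_ ?_ ?_ ?_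
  · obtain ⟨y, h1, h2, h3, -⟩ :=
      exists_good_elt (K := K) q ∅ (fun x hx => absurd hx (Finset.notMem_empty x))
    exact ⟨_, y, h1, h2, h3, rfl⟩
  · rintro a ⟨y₁, h11, h12, h13, rfl⟩ b ⟨y₂, h21, h22, h23, rfl⟩
    obtain ⟨y, h1, h2, h3, h4⟩ := exists_good_elt q {y₁, y₂} (by
      intro x hx σ hσ
      rcases Finset.mem_insert.mp hx with rfl | hx
      · exact h12 σ hσ
      · rw [Finset.mem_singleton.mp hx]
        exact h22 σ hσ)
    exact ⟨_, ⟨y, h1, h2, h3, rfl⟩,
      locAt_mono q (hKy_le y₁ y (h4 y₁ (Finset.mem_insert_self _ _))),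
      locAt_mono q (hKy_le y₂ y
        (h4 y₂ (Finset.mem_insert_of_mem (Finset.mem_singleton_self _))))⟩
  · rintro a ⟨y, h1, h2, h3, rfl⟩
    apply locAt_mono
    intro x hx
    have h5 : Algebra.adjoin K {y} ≤ (IntermediateField.fixedField I).toSubalgebra :=
      Algebra.adjoin_le (Set.singleton_subset_iff.mpr ((hFI y).mpr h2))
    exact h5 hx
  · rintro x ⟨b, s, hb, hs, hbF, hsF, hsq, hx⟩
    obtain ⟨y, h1, h2, h3, h4⟩ := exists_good_elt q {b, s} (by
      intro z hz σ hσ
      rcases Finset.mem_insert.mp hz with rfl | hz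
      · exact (hFI _).mp hbF σ hσ
      · rw [Finset.mem_singleton.mp hz]
        exact (hFI _).mp hsF σ hσ)
    exact ⟨_, ⟨y, h1, h2, h3, rfl⟩, (mem_locAt q).mpr ⟨b, s, hb, hs,
      h4 b (Finset.mem_insert_self _ _),
      h4 s (Finset.mem_insert_of_mem (Finset.mem_singleton_self _)), hsq, hx⟩⟩
  · rintro a ⟨y, h1, h2, h3, rfl⟩
    exact isIndEtale_locAt_Ky q y h1 h3

/-- the contracted prime -/
abbrev rOf (M₀ : Subalgebra A L) : Ideal ↥(integralClosure A L ⊓ M₀) :=
  q.comap (Subalgebra.inclusion (inf_le_left : integralClosure A L ⊓ M₀ ≤ integralClosure A L))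

theorem mem_rOf (M₀ : Subalgebra A L) (x : ↥(integralClosure A L ⊓ M₀)) :
    x ∈ rOf q M₀ ↔ Inq q (x : L) := by
  have hx : IsIntegral A (x : L) := (Algebra.mem_inf.mp x.2).1
  rw [inq_iff hx]
  exact Iff.rfl

theorem le_locAt (M₀ : Subalgebra A L) : integralClosure A L ⊓ M₀ ≤ locAt q M₀ := by
  intro x hx
  obtain ⟨h1, h2⟩ := Algebra.mem_inf.mp hx
  exact ⟨x, 1, h1, isIntegral_one, h2, M₀.one_mem, not_inq_one, mul_one x⟩

theorem isIndEtale_localization_of_locAt (M₀ : Subalgebra A L)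
    (hW : EtPBC.IsIndEtale A ↥(locAt q M₀)) :
    EtPBC.IsIndEtale A (Localization.AtPrime (rOf q M₀)) := by
  classical
  let ι : ↥(integralClosure A L ⊓ M₀) →ₐ[A] ↥(locAt q M₀) := Subalgebra.inclusion (le_locAt q M₀)
  letI algRW : Algebra ↥(integralClosure A L ⊓ M₀) ↥(locAt q M₀) := ι.toRingHom.toAlgebra
  haveI : IsScalarTower A ↥(integralClosure A L ⊓ M₀) ↥(locAt q M₀) :=
    IsScalarTower.of_algebraMap_eq (fun a => (ι.commutes a).symm)
  haveI hloc : IsLocalization.AtPrime ↥(locAt q M₀) (rOf q M₀) := by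
    refine (isLocalization_iff (rOf q M₀).primeCompl _).mpr ⟨?_, ?_, ?_⟩
    · rintro ⟨m, hm⟩
      have hmq : ¬ Inq q (m : L) := fun h => hm ((mem_rOf q M₀ m).mpr h)
      have hm0 : (m : L) ≠ 0 := fun h => hmq (h ▸ inq_zero q)
      obtain ⟨hm1, hm2⟩ := Algebra.mem_inf.mp m.2
      refine isUnit_iff_exists_inv.mpr ⟨⟨(m : L)⁻¹, ⟨1, (m : L), isIntegral_one, hm1,
        M₀.one_mem, hm2, hmq, inv_mul_cancel₀ hm0⟩⟩, Subtype.ext ?_⟩
      show (m : L) * (m : L)⁻¹ = 1
      exact mul_inv_cancel₀ hm0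
    · rintro ⟨z, b, s, hb, hs, hbF, hsF, hsq, hz⟩
      exact ⟨(⟨b, Algebra.mem_inf.mpr ⟨hb, hbF⟩⟩,
        ⟨⟨s, Algebra.mem_inf.mpr ⟨hs, hsF⟩⟩,
          Ideal.mem_primeCompl_iff.mpr (fun h => hsq ((mem_rOf q M₀ _).mp h))⟩), Subtype.ext hz⟩
    · intro x₁ x₂ h
      refine ⟨1, ?_⟩
      have h2 := congrArg Subtype.val h
      have h3 : x₁ = x₂ := Subtype.ext h2
      rw [h3]
  let e : Localization.AtPrime (rOf q M₀) ≃ₐ[↥(integralClosure A L ⊓ M₀)] ↥(locAt q M₀) :=
    IsLocalization.algEquiv (rOf q M₀).primeCompl _ _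
  exact isIndEtale_of_algEquiv (e.restrictScalars A).symm hW

theorem main (I : Subgroup (L ≃ₐ[K] L))
    (hI : ∀ σ : L ≃ₐ[K] L, σ ∈ I ↔ ∀ b : integralClosure A L, ∃ c ∈ q, (c : L) = σ b - b) :
    EtPBC.IsIndEtale A (Localization.AtPrime
      (q.comap (Subalgebra.inclusion
        (inf_le_left : integralClosure A L ⊓
          (IntermediateField.fixedField I).toSubalgebra.restrictScalars A ≤
          integralClosure A L)))) :=
  isIndEtale_localization_of_locAt q _ (isIndEtale_locAt_fixed q I hI)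

end Main


end Groth.Agent.Helper7.Inertia
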